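import Mathlib

/-! A fixed-point-free subgroup of order 240 of `GL₄(7)`, by a closed table of its elements. -/

set_option autoImplicit false

namespace CfsgLib.SpectrumA10

/-- A row. -/
abbrev R4 := ℕ × ℕ × ℕ × ℕ

/-- A matrix as nested tuples. -/
abbrev M4 := R4 × R4 × R4 × R4

/-- Row times matrix modulo 7. -/
def rowMul (r : R4) (B : M4) : R4 :=
  ((r.1 * B.1.1 + r.2.1 * B.2.1.1 + r.2.2.1 * B.2.2.1.1 + r.2.2.2 * B.2.2.2.1) % 7,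
   (r.1 * B.1.2.1 + r.2.1 * B.2.1.2.1 + r.2.2.1 * B.2.2.1.2.1 + r.2.2.2 * B.2.2.2.2.1) % 7,
   (r.1 * B.1.2.2.1 + r.2.1 * B.2.1.2.2.1 + r.2.2.1 * B.2.2.1.2.2.1 + r.2.2.2 * B.2.2.2.2.2.1) % 7,
   (r.1 * B.1.2.2.2 + r.2.1 * B.2.1.2.2.2 + r.2.2.1 * B.2.2.1.2.2.2 + r.2.2.2 * B.2.2.2.2.2.2) % 7)

/-- Product modulo 7. -/
def mulM (A B : M4) : M4 := (rowMul A.1 B, rowMul A.2.1 B, rowMul A.2.2.1 B, rowMul A.2.2.2 B)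

/-- Componentwise sum modulo 7. -/
def addR (r s : R4) : R4 := ((r.1 + s.1) % 7, (r.2.1 + s.2.1) % 7, (r.2.2.1 + s.2.2.1) % 7, (r.2.2.2 + s.2.2.2) % 7)

/-- Matrix sum modulo 7. -/
def addM (A B : M4) : M4 := (addR A.1 B.1, addR A.2.1 B.2.1, addR A.2.2.1 B.2.2.1, addR A.2.2.2 B.2.2.2)

def oneM : M4 := ((1,0,0,0), (0,1,0,0), (0,0,1,0), (0,0,0,1))
def negOneM : M4 := ((6,0,0,0), (0,6,0,0), (0,0,6,0), (0,0,0,6))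
def zeroM : M4 := ((0,0,0,0), (0,0,0,0), (0,0,0,0), (0,0,0,0))

/-- Power. -/
def powM (A : M4) : ℕ → M4
  | 0 => oneM
  | n + 1 => mulM (powM A n) A

/-- Geometric sum. -/
def geomM (A : M4) : ℕ → M4
  | 0 => zeroM
  | n + 1 => addM (geomM A n) (powM A n)

def genA : M4 := ((0,4,4,1), (4,0,1,3), (0,1,1,4), (1,0,4,6))
def genB : M4 := ((4,4,3,5), (3,4,2,3), (2,5,0,1), (2,2,6,0))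
def genAInv : M4 := ((6,4,4,6), (4,1,6,3), (0,6,0,4), (6,0,4,0))
def genBInv : M4 := ((0,1,4,2), (6,0,5,4), (5,2,4,4), (5,5,3,4))

def tabL : List M4 := [
  ((1,0,0,0), (0,1,0,0), (0,0,1,0), (0,0,0,1)),
  ((0,4,4,1), (4,0,1,3), (0,1,1,4), (1,0,4,6)),
  ((4,4,3,5), (3,4,2,3), (2,5,0,1), (2,2,6,0)),
  ((3,4,5,6), (3,3,1,5), (1,1,4,3), (6,1,4,4)),
  ((1,3,0,2), (3,6,2,0), (6,3,5,4), (3,1,4,2)),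
  ((0,5,1,2), (5,0,2,6), (0,1,3,2), (1,0,2,4)),
  ((2,1,1,0), (6,2,0,1), (4,2,1,4), (5,4,3,1)),
  ((1,3,3,1), (3,6,1,4), (0,1,0,3), (1,0,3,0)),
  ((4,2,4,4), (5,4,3,4), (0,6,2,5), (1,0,2,2)),
  ((0,4,1,1), (3,0,6,1), (2,1,6,3), (6,2,4,6)),
  ((3,6,0,0), (6,4,0,0), (2,6,6,2), (6,5,2,1)),
  ((1,1,0,3), (6,1,4,0), (6,3,5,6), (4,6,1,5)),
  ((0,1,1,2), (1,0,2,6), (6,2,0,6), (2,1,6,0)),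
  ((4,2,3,2), (2,3,2,4), (5,3,0,3), (3,2,3,0)),
  ((6,3,1,0), (4,6,0,1), (4,2,5,6), (5,4,1,5)),
  ((6,0,0,0), (0,6,0,0), (0,0,6,0), (0,0,0,6)),
  ((0,5,1,3), (5,0,3,6), (2,3,6,3), (3,5,3,1)),
  ((5,6,3,1), (6,2,1,4), (1,2,0,0), (2,6,0,0)),
  ((3,3,5,2), (4,3,5,5), (4,2,0,6), (5,4,1,0)),
  ((3,1,2,1), (1,4,1,5), (0,0,6,5), (0,0,5,1)),
  ((2,2,0,6), (5,2,1,0), (1,6,5,5), (1,1,2,5)),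
  ((3,5,4,0), (2,3,0,4), (5,0,0,0), (0,5,0,0)),
  ((2,1,0,5), (1,5,5,0), (0,3,2,6), (3,0,6,5)),
  ((0,4,3,1), (4,0,1,4), (4,1,0,1), (1,3,1,0)),
  ((6,0,2,1), (0,6,6,2), (6,3,4,2), (4,6,5,4)),
  ((6,1,3,5), (6,6,2,3), (0,3,1,6), (4,0,1,1)),
  ((2,6,0,4), (6,5,4,0), (0,2,2,1), (2,0,1,5)),
  ((3,5,1,6), (2,3,1,1), (1,6,0,4), (1,1,3,0)),
  ((4,1,0,1), (1,3,1,0), (0,3,4,6), (3,0,6,3)),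
  ((5,4,0,5), (4,2,5,0), (0,0,5,3), (0,0,3,2)),
  ((0,6,3,5), (1,0,2,3), (2,5,3,3), (2,2,4,3)),
  ((0,3,3,6), (3,0,6,4), (0,6,6,3), (6,0,3,1)),
  ((3,3,4,2), (4,3,5,4), (5,2,0,6), (5,5,1,0)),
  ((2,1,4,2), (6,2,5,4), (1,0,1,4), (0,1,3,1)),
  ((2,3,0,2), (3,5,2,0), (0,0,2,4), (0,0,4,5)),
  ((4,2,5,6), (5,4,1,5), (1,4,6,0), (3,1,0,6)),
  ((4,5,5,4), (5,3,4,2), (3,5,0,4), (5,4,4,0)),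
  ((0,3,0,2), (3,0,2,0), (0,2,0,4), (2,0,4,0)),
  ((0,4,6,1), (3,0,6,6), (6,1,3,5), (6,6,2,3)),
  ((5,0,5,6), (0,5,1,5), (5,6,5,5), (1,5,2,5)),
  ((0,0,3,6), (0,0,6,4), (1,5,2,6), (5,6,6,5)),
  ((0,1,6,2), (1,0,2,1), (1,2,0,6), (2,6,6,0)),
  ((5,0,4,2), (0,5,5,4), (0,0,3,0), (0,0,0,3)),
  ((6,2,0,6), (2,1,6,0), (0,6,6,5), (6,0,5,1)),
  ((0,3,5,6), (4,0,1,5), (6,6,1,4), (1,6,3,1)),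
  ((0,1,3,6), (1,0,6,4), (4,6,0,4), (6,3,4,0)),
  ((6,5,0,1), (5,1,1,0), (0,1,6,2), (1,0,2,1)),
  ((1,5,2,6), (5,6,6,5), (0,0,4,1), (0,0,1,3)),
  ((2,1,3,4), (6,2,3,3), (3,4,1,1), (3,3,6,1)),
  ((2,6,6,2), (6,5,2,1), (4,1,0,0), (1,3,0,0)),
  ((1,4,1,1), (3,1,6,1), (2,1,0,3), (6,2,4,0)),
  ((0,1,2,2), (6,0,5,2), (2,2,1,6), (5,2,1,1)),
  ((6,5,0,0), (5,1,0,0), (5,6,3,1), (6,2,1,4)),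
  ((5,6,0,2), (6,2,2,0), (0,4,5,1), (4,0,1,2)),
  ((6,0,6,3), (0,6,4,6), (2,1,4,2), (6,2,5,4)),
  ((5,2,0,6), (5,5,1,0), (4,4,3,5), (3,4,2,3)),
  ((0,6,2,5), (1,0,2,2), (3,5,3,3), (2,3,4,3)),
  ((0,4,4,2), (4,0,2,3), (2,3,4,5), (3,5,5,3)),
  ((1,3,1,4), (3,6,4,6), (2,4,0,5), (4,5,5,0)),
  ((4,3,2,1), (4,4,6,2), (6,6,3,4), (1,6,3,3)),
  ((6,4,0,5), (4,1,5,0), (1,4,2,3), (4,6,3,5)),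
  ((0,2,6,5), (2,0,5,1), (0,6,4,5), (6,0,5,3)),
  ((5,6,6,0), (1,5,0,6), (3,5,6,3), (2,3,4,6)),
  ((6,5,0,5), (5,1,5,0), (4,5,0,1), (5,3,1,0)),
  ((2,1,6,3), (6,2,4,6), (0,3,6,6), (4,0,1,6)),
  ((0,1,5,2), (6,0,5,5), (4,2,4,4), (5,4,3,4)),
  ((0,3,3,5), (3,0,5,4), (5,4,3,2), (4,2,2,4)),
  ((0,0,5,3), (0,0,3,2), (2,3,0,2), (3,5,2,0)),
  ((2,5,3,3), (2,2,4,3), (0,1,4,2), (6,0,5,4)),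
  ((3,0,0,0), (0,3,0,0), (3,5,5,0), (2,3,0,5)),
  ((0,6,4,5), (6,0,5,3), (0,5,1,2), (5,0,2,6)),
  ((0,0,4,0), (0,0,0,4), (5,0,4,2), (0,5,5,4)),
  ((6,2,4,2), (2,1,2,3), (0,2,0,6), (2,0,6,0)),
  ((5,6,0,4), (1,5,3,0), (1,4,1,1), (3,1,6,1)),
  ((6,3,6,6), (4,6,1,6), (5,6,0,4), (1,5,3,0)),
  ((4,6,1,3), (6,3,3,6), (0,4,0,1), (4,0,1,0)),
  ((6,6,1,4), (1,6,3,1), (0,4,2,1), (3,0,6,2)),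
  ((5,3,0,2), (3,2,2,0), (1,3,1,4), (3,6,4,6)),
  ((2,3,4,5), (3,5,5,3), (0,3,3,5), (3,0,5,4)),
  ((4,2,6,1), (5,4,6,6), (6,1,0,3), (6,6,4,0)),
  ((0,3,1,6), (4,0,1,1), (1,6,4,2), (1,1,5,4)),
  ((0,2,2,1), (2,0,1,5), (5,1,0,3), (1,2,3,0)),
  ((4,5,4,2), (5,3,2,3), (0,4,5,3), (4,0,3,2)),
  ((3,3,0,2), (4,3,5,0), (0,2,3,4), (5,0,3,3)),
  ((6,4,6,3), (4,1,3,1), (5,3,0,2), (3,2,2,0)),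
  ((0,4,0,1), (4,0,1,0), (3,1,6,4), (1,4,4,1)),
  ((1,4,0,6), (4,6,6,0), (3,6,0,4), (6,4,4,0)),
  ((4,0,4,2), (0,4,5,4), (0,0,2,0), (0,0,0,2)),
  ((5,0,0,0), (0,5,0,0), (4,2,3,0), (5,4,0,3)),
  ((0,3,2,6), (3,0,6,5), (5,6,0,2), (6,2,2,0)),
  ((3,5,6,2), (5,4,2,1), (0,1,0,2), (1,0,2,0)),
  ((6,6,3,4), (1,6,3,3), (3,4,5,6), (3,3,1,5)),
  ((4,4,0,5), (3,4,2,0), (0,5,4,3), (2,0,4,4)),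
  ((4,2,0,3), (2,3,3,0), (4,5,5,4), (5,3,4,2)),
  ((0,6,4,1), (6,0,1,3), (3,1,0,3), (1,4,3,0)),
  ((3,2,0,6), (2,4,6,0), (6,5,0,5), (5,1,5,0)),
  ((3,5,6,3), (2,3,4,6), (2,1,1,0), (6,2,0,1)),
  ((1,2,0,0), (2,6,0,0), (2,1,4,6), (1,5,6,3)),
  ((4,2,0,6), (5,4,1,0), (4,4,2,5), (3,4,2,2)),
  ((4,4,2,5), (3,4,2,2), (3,5,0,1), (2,3,6,0)),
  ((2,1,5,1), (1,5,1,2), (2,6,2,1), (6,5,1,5)),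
  ((6,4,4,6), (4,1,6,3), (0,6,0,4), (6,0,4,0)),
  ((3,5,3,3), (2,3,4,3), (0,1,5,2), (6,0,5,5)),
  ((0,3,6,6), (4,0,1,6), (5,6,1,4), (1,5,3,1)),
  ((4,1,0,0), (1,3,0,0), (5,1,1,5), (1,2,5,6)),
  ((6,6,0,4), (1,6,3,0), (1,4,2,1), (3,1,6,2)),
  ((0,6,6,5), (6,0,5,1), (1,5,0,1), (5,6,1,0)),
  ((3,5,4,5), (5,4,5,3), (2,4,0,4), (4,5,4,0)),
  ((1,4,6,0), (3,1,0,6), (3,5,2,1), (2,3,6,2)),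
  ((4,3,0,2), (4,4,5,0), (0,2,4,4), (5,0,3,4)),
  ((0,5,2,3), (5,0,3,5), (5,3,0,0), (3,2,0,0)),
  ((0,0,6,5), (0,0,5,1), (4,6,5,6), (6,3,6,2)),
  ((1,6,5,5), (1,1,2,5), (5,5,0,1), (2,5,6,0)),
  ((3,5,0,1), (2,3,6,0), (3,3,5,2), (4,3,5,5)),
  ((4,2,1,5), (2,3,5,6), (0,6,0,5), (6,0,5,0)),
  ((2,4,0,5), (4,5,5,0), (6,4,6,3), (4,1,3,1)),
  ((0,0,6,0), (0,0,0,6), (1,0,0,0), (0,1,0,0)),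
  ((0,5,5,3), (5,0,3,2), (6,3,1,3), (3,1,3,6)),
  ((5,5,2,1), (2,5,6,2), (2,1,5,0), (6,2,0,5)),
  ((1,4,2,1), (3,1,6,2), (1,1,0,3), (6,1,4,0)),
  ((1,5,0,1), (5,6,1,0), (0,1,1,2), (1,0,2,6)),
  ((1,6,0,4), (1,1,3,0), (4,2,6,1), (5,4,6,6)),
  ((3,0,3,5), (0,3,2,3), (0,0,5,0), (0,0,0,5)),
  ((0,6,0,5), (6,0,5,0), (3,5,6,2), (5,4,2,1)),
  ((1,1,4,3), (6,1,4,4), (4,3,2,1), (4,4,6,2)),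
  ((6,3,0,2), (4,6,5,0), (3,0,1,4), (0,3,3,1)),
  ((0,2,0,4), (2,0,4,0), (0,4,0,5), (4,0,5,0)),
  ((0,4,5,3), (4,0,3,2), (3,2,3,5), (2,4,5,4)),
  ((3,5,5,0), (2,3,0,5), (4,0,0,0), (0,4,0,0)),
  ((5,1,5,6), (1,2,6,2), (2,1,5,1), (1,5,1,2)),
  ((0,1,0,2), (1,0,2,0), (4,2,1,5), (2,3,5,6)),
  ((1,0,1,4), (0,1,3,1), (5,6,3,5), (1,5,2,3)),
  ((2,1,0,3), (6,2,4,0), (6,3,6,6), (4,6,1,6)),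
  ((2,2,1,6), (5,2,1,1), (0,6,5,5), (1,0,2,5)),
  ((1,4,6,4), (4,6,4,1), (0,5,5,3), (5,0,3,2)),
  ((4,0,6,3), (0,4,4,6), (6,3,0,2), (4,6,5,0)),
  ((5,2,4,4), (5,5,3,4), (0,6,3,5), (1,0,2,3)),
  ((5,6,2,6), (6,2,6,5), (5,1,5,6), (1,2,6,2)),
  ((3,0,1,4), (0,3,3,1), (1,4,0,5), (3,1,2,0)),
  ((0,4,0,5), (4,0,5,0), (0,5,0,3), (5,0,3,0)),
  ((1,4,4,0), (3,1,0,4), (0,5,6,3), (2,0,4,6)),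
  ((0,5,3,3), (2,0,4,3), (4,3,0,2), (4,4,5,0)),
  ((4,2,1,4), (5,4,3,1), (5,6,6,0), (1,5,0,6)),
  ((4,6,0,4), (6,3,4,0), (0,6,4,1), (6,0,1,3)),
  ((1,4,3,5), (3,1,2,3), (6,0,2,1), (0,6,6,2)),
  ((0,6,0,4), (6,0,4,0), (1,3,3,1), (3,6,1,4)),
  ((0,2,5,4), (2,0,4,2), (2,4,0,0), (4,5,0,0)),
  ((4,2,2,0), (5,4,0,2), (3,0,0,0), (0,3,0,0)),
  ((2,4,0,0), (4,5,0,0), (0,5,2,3), (5,0,3,5)),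
  ((2,4,0,4), (4,5,4,0), (4,2,3,2), (2,3,2,4)),
  ((3,5,2,1), (2,3,6,2), (6,3,1,0), (4,6,0,1)),
  ((3,5,0,4), (5,4,4,0), (3,2,2,3), (2,4,3,5)),
  ((5,6,4,3), (1,5,4,4), (4,3,6,6), (4,4,1,6)),
  ((0,2,6,4), (2,0,4,1), (5,4,1,4), (4,2,4,6)),
  ((2,1,4,6), (1,5,6,3), (6,5,0,0), (5,1,0,0)),
  ((4,6,5,6), (6,3,6,2), (0,0,1,2), (0,0,2,6)),
  ((5,5,0,1), (2,5,6,0), (6,1,2,2), (6,6,5,2)),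
  ((4,2,3,0), (5,4,0,3), (2,0,0,0), (0,2,0,0)),
  ((0,3,4,6), (3,0,6,3), (3,6,0,6), (6,4,6,0)),
  ((1,0,5,6), (0,1,1,5), (1,4,3,5), (3,1,2,3)),
  ((1,6,4,2), (1,1,5,4), (0,4,6,1), (3,0,6,6)),
  ((5,1,0,3), (1,2,3,0), (0,5,5,6), (5,0,6,2)),
  ((3,6,0,6), (6,4,6,0), (0,4,3,1), (4,0,1,4)),
  ((0,1,4,2), (6,0,5,4), (5,2,4,4), (5,5,3,4)),
  ((2,2,5,6), (5,2,1,5), (5,6,2,0), (1,5,0,2)),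
  ((4,1,0,3), (1,3,3,0), (1,4,0,6), (4,6,6,0)),
  ((5,6,5,5), (1,5,2,5), (2,0,2,1), (0,2,6,2)),
  ((1,2,0,6), (2,6,6,0), (0,6,1,5), (6,0,5,6)),
  ((0,0,3,0), (0,0,0,3), (2,0,3,5), (0,2,2,3)),
  ((0,5,0,3), (5,0,3,0), (0,3,0,2), (3,0,2,0)),
  ((6,3,4,2), (4,6,5,4), (1,0,5,6), (0,1,1,5)),
  ((2,6,2,1), (6,5,1,5), (5,6,2,6), (6,2,6,5)),
  ((0,6,6,3), (6,0,3,1), (0,4,4,1), (4,0,1,3)),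
  ((2,5,1,4), (2,2,3,1), (1,4,5,2), (3,1,5,5)),
  ((6,3,3,0), (4,6,0,3), (0,2,1,4), (5,0,3,1)),
  ((0,5,5,6), (5,0,6,2), (2,6,0,4), (6,5,4,0)),
  ((0,4,5,1), (4,0,1,2), (2,1,0,5), (1,5,5,0)),
  ((0,2,4,4), (5,0,3,4), (3,4,0,5), (3,3,2,0)),
  ((0,1,0,3), (1,0,3,0), (6,4,4,6), (4,1,6,3)),
  ((0,3,0,6), (3,0,6,0), (4,6,1,3), (6,3,3,6)),
  ((0,2,0,6), (2,0,6,0), (1,5,3,5), (5,6,5,4)),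
  ((6,3,1,3), (3,1,3,6), (0,2,2,4), (2,0,4,5)),
  ((2,1,5,0), (6,2,0,5), (2,2,5,6), (5,2,1,5)),
  ((3,4,1,1), (3,3,6,1), (5,6,4,3), (1,5,4,4)),
  ((4,5,0,1), (5,3,1,0), (1,2,0,2), (2,6,2,0)),
  ((0,5,4,3), (2,0,4,4), (3,3,0,2), (4,3,5,0)),
  ((6,3,2,5), (4,6,2,2), (2,5,1,4), (2,2,3,1)),
  ((1,2,0,2), (2,6,2,0), (3,2,0,6), (2,4,6,0)),
  ((3,1,6,4), (1,4,4,1), (0,3,0,6), (3,0,6,0)),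
  ((0,0,1,0), (0,0,0,1), (6,0,0,0), (0,6,0,0)),
  ((5,3,0,3), (3,2,3,0), (3,5,4,5), (5,4,5,3)),
  ((1,4,5,2), (3,1,5,5), (5,2,6,3), (5,5,4,6)),
  ((1,5,3,5), (5,6,5,4), (0,5,0,1), (5,0,1,0)),
  ((2,3,6,3), (3,5,3,1), (0,2,6,4), (2,0,4,1)),
  ((0,2,3,4), (5,0,3,3), (4,4,0,5), (3,4,2,0)),
  ((4,3,6,6), (4,4,1,6), (2,1,3,4), (6,2,3,3)),
  ((5,4,1,4), (4,2,4,6), (0,5,1,3), (5,0,3,6)),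
  ((3,6,0,4), (6,4,4,0), (6,3,0,1), (3,1,1,0)),
  ((5,6,2,0), (1,5,0,2), (5,5,2,1), (2,5,6,2)),
  ((6,3,0,1), (3,1,1,0), (4,1,0,3), (1,3,3,0)),
  ((6,1,0,3), (6,6,4,0), (3,5,1,6), (2,3,1,1)),
  ((0,0,2,4), (0,0,4,5), (5,4,0,5), (4,2,5,0)),
  ((5,6,3,5), (1,5,2,3), (6,0,6,3), (0,6,4,6)),
  ((3,2,2,3), (2,4,3,5), (4,2,0,3), (2,3,3,0)),
  ((2,0,2,1), (0,2,6,2), (2,1,2,2), (6,2,5,2)),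
  ((0,0,4,1), (0,0,1,3), (6,2,5,1), (2,1,1,2)),
  ((0,6,1,5), (6,0,5,6), (6,5,0,1), (5,1,1,0)),
  ((2,0,3,5), (0,2,2,3), (0,0,4,0), (0,0,0,4)),
  ((0,4,2,1), (3,0,6,2), (1,1,6,3), (6,1,4,6)),
  ((6,2,5,1), (2,1,1,2), (0,0,3,6), (0,0,6,4)),
  ((5,1,1,5), (1,2,5,6), (3,6,0,0), (6,4,0,0)),
  ((0,6,5,5), (1,0,2,5), (5,5,6,1), (2,5,6,6)),
  ((2,5,0,1), (2,2,6,0), (3,3,4,2), (4,3,5,4)),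
  ((0,2,1,4), (5,0,3,1), (1,4,4,0), (3,1,0,4)),
  ((1,4,2,3), (4,6,3,5), (1,3,0,2), (3,6,2,0)),
  ((0,5,0,1), (5,0,1,0), (6,2,4,2), (2,1,2,3)),
  ((5,5,6,1), (2,5,6,6), (0,1,2,2), (6,0,5,2)),
  ((3,1,0,3), (1,4,3,0), (0,1,3,6), (1,0,6,4)),
  ((0,0,5,0), (0,0,0,5), (4,0,4,2), (0,4,5,4)),
  ((0,0,2,0), (0,0,0,2), (3,0,3,5), (0,3,2,3)),
  ((5,3,0,0), (3,2,0,0), (0,2,5,4), (2,0,4,2)),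
  ((1,4,0,5), (3,1,2,0), (4,0,6,3), (0,4,4,6)),
  ((3,4,0,5), (3,3,2,0), (0,5,3,3), (2,0,4,3)),
  ((0,1,1,4), (1,0,4,6), (0,3,3,6), (3,0,6,4)),
  ((0,0,1,2), (0,0,2,6), (3,1,2,1), (1,4,1,5)),
  ((0,5,6,3), (2,0,4,6), (6,3,3,0), (4,6,0,3)),
  ((3,2,3,5), (2,4,5,4), (0,3,2,4), (3,0,4,5)),
  ((0,3,2,4), (3,0,4,5), (4,5,4,2), (5,3,2,3)),
  ((5,4,3,2), (4,2,2,4), (0,4,4,2), (4,0,2,3)),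
  ((5,6,1,4), (1,5,3,1), (0,4,1,1), (3,0,6,1)),
  ((4,0,0,0), (0,4,0,0), (4,2,2,0), (5,4,0,2)),
  ((0,1,3,2), (1,0,2,4), (0,2,6,5), (2,0,5,1)),
  ((1,1,6,3), (6,1,4,6), (0,3,5,6), (4,0,1,5)),
  ((2,0,0,0), (0,2,0,0), (3,5,4,0), (2,3,0,4)),
  ((5,2,6,3), (5,5,4,6), (6,3,2,5), (4,6,2,2)),
  ((6,3,5,6), (4,6,1,5), (6,6,0,4), (1,6,3,0)),
  ((6,3,5,4), (3,1,4,2), (6,4,0,5), (4,1,5,0)),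
  ((2,1,2,2), (6,2,5,2), (5,0,5,6), (0,5,1,5)),
  ((6,1,2,2), (6,6,5,2), (2,2,0,6), (5,2,1,0)),
  ((0,2,2,4), (2,0,4,5), (1,4,6,4), (4,6,4,1))]

def tabA : List ℕ := [1, 3, 5, 7, 9, 11, 13, 15, 17, 19, 21, 23, 25, 27, 29, 31, 33, 35, 37, 39, 41, 43, 6, 32, 47, 49, 51, 53, 55, 56, 58, 59, 61, 63, 65, 67, 69, 71, 10, 60, 74, 76, 78, 80, 82, 83, 44, 73, 86, 88, 90, 72, 14, 62, 95, 70, 97, 99, 68, 101, 103, 105, 107, 109, 111, 52, 18, 102, 115, 117, 119, 57, 122, 123, 114, 125, 127, 30, 113, 22, 104, 133, 112, 110, 136, 138, 140, 26, 106, 142, 144, 145, 146, 147, 92, 141, 149, 108, 126, 139, 152, 0, 154, 155, 157, 158, 160, 79, 34, 153, 164, 166, 167, 169, 170, 163, 172, 173, 45, 162, 38, 176, 161, 159, 178, 179, 42, 156, 181, 183, 24, 184, 130, 180, 186, 188,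 77, 48, 75, 168, 100, 193, 190, 194, 40, 189, 118, 134, 182, 200, 201, 128, 199, 202, 150, 204, 206, 120, 2, 209, 210, 211, 212, 84, 94, 213, 214, 208, 66, 207, 205, 195, 91, 203, 137, 216, 96, 196, 116, 135, 218, 191, 143, 197, 177, 148, 151, 222, 221, 223, 121, 93, 87, 131, 220, 165, 54, 225, 217, 174, 89, 8, 187, 230, 4, 50, 232, 228, 226, 132, 233, 192, 231, 129, 229, 219, 215, 185, 175, 81, 198, 85, 16, 124, 237, 171, 238, 20, 98, 224, 239, 235, 227, 12, 36, 28, 64, 236, 46, 234]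

def tabB : List ℕ := [2, 4, 6, 8, 10, 12, 14, 16, 18, 20, 22, 24, 26, 28, 30, 32, 34, 36, 38, 40, 42, 44, 45, 46, 48, 50, 52, 54, 41, 57, 15, 60, 62, 64, 66, 68, 70, 72, 73, 51, 75, 77, 79, 81, 69, 31, 84, 85, 87, 89, 91, 92, 93, 94, 9, 96, 98, 90, 100, 102, 104, 106, 108, 110, 112, 113, 114, 78, 116, 118, 120, 121, 111, 59, 124, 126, 128, 129, 130, 131, 132, 17, 134, 135, 137, 139, 127, 141, 76, 143, 7, 65, 138, 61, 1, 148, 150, 151, 25, 80, 149, 153, 99, 156, 53, 159, 161, 162, 163, 119, 165, 47, 168, 160, 101, 171, 55, 95, 174, 144, 175, 33, 177, 145, 56, 173, 180, 117, 182, 107, 178, 103, 3, 185, 187, 186, 189, 190, 191, 192, 21, 105, 35, 172, 195, 196, 197, 198, 199, 23, 136, 5, 122, 29, 203, 205, 207, 208, 167, 152, 74, 97, 206, 0, 140, 82, 133,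 58, 200, 215, 183, 13, 214, 166, 157, 154, 217, 11, 193, 37, 155, 63, 213, 219, 220, 221, 39, 146, 169, 212, 158, 204, 224, 201, 125, 218, 67, 226, 225, 227, 202, 228, 229, 231, 211, 188, 115, 27, 230, 179, 176, 83, 142, 233, 210, 19, 194, 223, 222, 109, 86, 234, 235, 236, 209, 88, 181, 239, 123, 238, 164, 43, 147, 232, 237, 170, 49, 216, 71, 184]

def tabO : List ℕ := [1, 8, 10, 4, 8, 8, 5, 8, 3, 3, 12, 3, 12, 12, 10, 2, 12, 12, 5, 12, 4, 5, 4, 12, 5, 4, 4, 5, 4, 4, 5, 8, 5, 5, 4, 5, 12, 4, 5, 5, 12, 12, 6, 4, 6, 12, 4, 12, 5, 12, 6, 6, 12, 4, 5, 6, 5, 12, 12, 4, 8, 8, 10, 8, 6, 10, 12, 8, 3, 6, 8, 10, 8, 3, 3, 8, 6, 8, 8, 10, 10, 8, 8, 3, 12, 8, 8, 3, 6, 8, 8, 10, 6, 8, 12, 8, 10, 12, 3, 10, 8, 8, 6, 6, 12, 6, 12, 12, 5, 6, 8, 12, 6, 6, 8, 8, 4, 12, 5,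 6, 4, 4, 6, 8, 5, 4, 4, 12, 5, 8, 8, 10, 6, 4, 8, 10, 6, 8, 5, 4, 4, 4, 5, 4, 5, 8, 8, 10, 4, 8, 10, 8, 10, 12, 12, 12, 4, 10, 12, 10, 4, 4, 4, 10, 10, 8, 4, 4, 5, 4, 10, 8, 8, 4, 4, 8, 8, 4, 8, 8, 8, 8, 4, 4, 8, 4, 4, 8, 8, 4, 8, 4, 8, 8, 4, 4, 8, 8, 4, 8, 4, 8, 10, 12, 10, 12, 12, 3, 3, 12, 12, 3, 3, 10, 12, 8, 4, 4, 10, 5, 4, 4, 3, 8, 12, 5, 8, 12, 8, 3, 3, 8, 3, 3, 4, 3, 12, 4, 3, 12]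

/-- The certificate for one element. -/
def goodM (x : M4) (n : ℕ) : Bool :=
  [1, 2, 3, 4, 5, 6, 8, 10, 12].elem n && (powM x n == oneM) &&
    (if n % 2 == 0 then powM x (n / 2) == negOneM else n == 1 || geomM x n == zeroM)

theorem tabA_ok : ((tabL.zip tabA).all fun e => mulM e.1 genA == tabL.getD e.2 zeroM && e.2 < 240) = true := by
  decide +kernel

theorem tabB_ok : ((tabL.zip tabB).all fun e => mulM e.1 genB == tabL.getD e.2 zeroM && e.2 < 240) = true := by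
  decide +kernel

theorem tabO_ok : ((tabL.zip tabO).all fun e => goodM e.1 e.2) = true := by
  decide +kernel

theorem lengths : tabL.length = 240 ∧ tabA.length = 240 ∧ tabB.length = 240 ∧ tabO.length = 240 := by
  decide +kernel

theorem inv_ok : (mulM genA genAInv == oneM && mulM genAInv genA == oneM && mulM genB genBInv == oneM &&
    mulM genBInv genB == oneM && tabL.getD 0 zeroM == oneM) = true := by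
  decide +kernel

end CfsgLib.SpectrumA10
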